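import Mathlib.Algebra.Lie.Basis.Base
import Mathlib.Algebra.Lie.CartanCriterion
import Mathlib.Algebra.Lie.Semisimple.Basic
import Mathlib.FieldTheory.IsAlgClosed.Basic

/-!
# Highest root vectors and Borel-stable subspaces of a simple Lie algebra
-/

set_option autoImplicit false

universe u v w

open LieAlgebra LieModule Module Set

noncomputable section

namespace Groth.Agent.AdjBorel

variable {ι : Type u} {K : Type v} {L : Type w} [Fintype ι] [Field K] [CharZero K]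
  [IsAlgClosed K] [LieRing L] [LieAlgebra K L] [FiniteDimensional K L] [LieAlgebra.IsKilling K L]
  {H : LieSubalgebra K L} [H.IsCartanSubalgebra] (b : LieAlgebra.Basis ι H)

/-- The root space of a functional, as a subspace. -/
abbrev R₀ (H : LieSubalgebra K L) [H.IsCartanSubalgebra] (χ : Module.Dual K H) : Submodule K L :=
  (rootSpace H χ : Submodule K L)

theorem mem_R₀_of_forall {χ : Module.Dual K H} {x : L} (h : ∀ y : H, ⁅(y : L), x⁆ = χ y • x) :
    x ∈ R₀ H χ :=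
  (LieModule.mem_genWeightSpace _ _ _).2 fun y => ⟨1, by
    simp only [pow_one, LinearMap.sub_apply, LinearMap.smul_apply, Module.End.one_apply, toEnd_apply_apply,
      LieSubalgebra.coe_bracket_of_module, h y, sub_self]⟩

theorem lie_eq {χ : Module.Dual K H} {x : L} (hx : x ∈ R₀ H χ) (y : H) : ⁅(y : L), x⁆ = χ y • x :=
  IsKilling.lie_eq_smul_of_mem_rootSpace hx y

theorem e_mem (i : ι) : b.e i ∈ R₀ H (b.baseSupp i) :=
  mem_R₀_of_forall fun y => by
    have := b.baseSupp_apply_smul_e i y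
    rw [LieSubalgebra.coe_bracket_of_module] at this
    exact this.symm

theorem f_mem (i : ι) : b.f i ∈ R₀ H (-b.baseSupp i) :=
  mem_R₀_of_forall fun y => by
    have := b.baseSupp_apply_smul_f i y
    rw [LieSubalgebra.coe_bracket_of_module] at this
    rw [LinearMap.neg_apply, neg_smul, this, neg_neg]

theorem lie_mem {χ ψ : Module.Dual K H} {x y : L} (hx : x ∈ R₀ H χ) (hy : y ∈ R₀ H ψ) :
    ⁅x, y⁆ ∈ R₀ H (χ + ψ) :=
  mem_R₀_of_forall fun h => by
    rw [leibniz_lie, lie_eq hx, lie_eq hy, smul_lie, lie_smul, ← add_smul, LinearMap.add_apply]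

theorem baseSupp_ne_zero (i : ι) : b.baseSupp i ≠ 0 :=
  b.linearIndependent_baseSupp.ne_zero i

/-- The simple root as a weight. -/
def wt (i : ι) : Weight K H L :=
  ⟨b.baseSupp i, fun h => (b.sl2 i).e_ne_zero <|
    (Submodule.mem_bot K).1 (((LieSubmodule.toSubmodule_eq_bot _).2 h : R₀ H (b.baseSupp i) = ⊥) ▸ e_mem b i)⟩

theorem wt_isNonZero (i : ι) : (wt b i).IsNonZero := fun h => baseSupp_ne_zero b i <| LinearMap.ext fun y => congrFun h y

theorem coroot_wt (i : ι) : IsKilling.coroot (wt b i) = b.h' i := by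
  have h1 : b.h i = (IsKilling.coroot (wt b i) : L) :=
    (b.sl2 i).h_eq_coroot (wt_isNonZero b i) (e_mem b i) (f_mem b i)
  exact Subtype.ext h1.symm

/-- A weight from a functional. -/
def toWt {χ : Module.Dual K H} (h : R₀ H χ ≠ ⊥) : Weight K H L :=
  ⟨χ, fun h' => h ((LieSubmodule.toSubmodule_eq_bot _).2 h')⟩

theorem ne_bot_iff {χ : Module.Dual K H} : R₀ H χ ≠ ⊥ ↔ rootSpace H χ ≠ ⊥ :=
  not_congr (LieSubmodule.toSubmodule_eq_bot _)

theorem finrank_eq_one {χ : Module.Dual K H} (h : R₀ H χ ≠ ⊥) (h0 : χ ≠ 0) : finrank K (R₀ H χ) = 1 :=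
  IsKilling.finrank_rootSpace_eq_one (toWt h) fun hz => h0 <| LinearMap.ext fun y => congrFun hz y

theorem le_of_mem {χ : Module.Dual K H} (h0 : χ ≠ 0) {W : Submodule K L} {x : L} (hx : x ∈ R₀ H χ) (hx0 : x ≠ 0)
    (hW : x ∈ W) : R₀ H χ ≤ W := by
  have hne : R₀ H χ ≠ ⊥ := (Submodule.ne_bot_iff _).2 ⟨x, hx, hx0⟩
  intro y hy
  obtain ⟨c, hc⟩ := (finrank_eq_one_iff_of_nonzero' ⟨x, hx⟩ fun h => hx0 (congrArg Subtype.val h)).1
    (finrank_eq_one hne h0) ⟨y, hy⟩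
  rw [← show c • x = y from congrArg Subtype.val hc]
  exact W.smul_mem c hW

theorem zsmul_add_coe (n : ℤ) (α χ : Module.Dual K H) :
    ((n • α + χ : Module.Dual K H) : H → K) = n • (α : H → K) + (χ : H → K) := rfl

/-- If `χ` and `χ + αᵢ` are roots then `ad eᵢ` does not kill a non-zero vector of weight `χ`. -/
theorem lie_e_ne_zero {χ : Module.Dual K H} (h0 : χ ≠ 0) (i : ι) (hχi : R₀ H (χ + b.baseSupp i) ≠ ⊥) {x : L}
    (hx : x ∈ R₀ H χ) (hx0 : x ≠ 0) : ⁅b.e i, x⁆ ≠ 0 := by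
  have hne : R₀ H χ ≠ ⊥ := (Submodule.ne_bot_iff _).2 ⟨x, hx, hx0⟩
  set α := wt b i with hα
  set β := toWt hne with hβ
  have htop : (1 : ℤ) ≤ chainTopCoeff α β := by
    refine ((IsKilling.rootSpace_zsmul_add_ne_bot_iff α β (wt_isNonZero b i) 1).1 ?_).1
    have h1 : rootSpace H (((1 : ℤ) • b.baseSupp i + χ : Module.Dual K H) : H → K) ≠ ⊥ :=
      ne_bot_iff.1 (by rw [one_smul, add_comm]; exact hχi)
    rw [zsmul_add_coe] at h1
    exact h1
  obtain ⟨t, ht⟩ : ∃ t, chainTopCoeff α β = t + 1 := Nat.exists_eq_add_of_le' (by exact_mod_cast htop)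
  obtain ⟨z, hz, hz0⟩ := (chainTop α β).exists_ne_zero
  have hco : (IsKilling.coroot α : L) = b.h i := by rw [hα, coroot_wt]; rfl
  have P : (b.sl2 i).HasPrimitiveVectorWith z (IsKilling.chainLength α β : K) := by
    refine ⟨hz0, ?_, ?_⟩
    · rw [IsKilling.chainLength_smul α β hz, LieSubalgebra.coe_bracket_of_module, hco]
    · have h := lie_mem_genWeightSpace_of_mem_genWeightSpace (e_mem b i) hz
      rw [show ((b.baseSupp i : H → K)) = (α : H → K) from rfl,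
        genWeightSpace_add_chainTop α β (wt_isNonZero b i)] at h
      exact h
  have hlen : t + 1 ≤ IsKilling.chainLength α β := ht ▸ IsKilling.chainTopCoeff_le_chainLength α β
  set y := ((toEnd K L L (b.f i)) ^ (t + 1)) z with hy
  have hy0 : y ≠ 0 := P.pow_toEnd_f_ne_zero_of_eq_nat rfl hlen
  have hyχ : y ∈ R₀ H χ := by
    have h := toEnd_pow_apply_mem (f_mem b i) hz (t + 1)
    have e : (t + 1) • ((-b.baseSupp i : Module.Dual K H) : H → K) + ⇑(chainTop α β) = (χ : H → K) := by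
      rw [coe_chainTop, ht]
      funext u
      simp only [Pi.add_apply, Pi.smul_apply, LinearMap.neg_apply]
      show (t + 1) • (-(b.baseSupp i u)) + (((t + 1 : ℕ) : ℤ) • b.baseSupp i u + χ u) = χ u
      rw [natCast_zsmul, smul_neg, ← add_assoc, neg_add_cancel, zero_add]
    rw [e] at h
    exact h
  obtain ⟨c, hc⟩ := (finrank_eq_one_iff_of_nonzero' ⟨y, hyχ⟩ fun h => hy0 (congrArg Subtype.val h)).1
    (finrank_eq_one hne h0) ⟨x, hx⟩
  have hc' : c • y = x := congrArg Subtype.val hc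
  rw [← hc', lie_smul, hy, P.lie_e_pow_succ_toEnd_f, smul_smul]
  refine smul_ne_zero (mul_ne_zero (fun h => hx0 (by rw [← hc', h, zero_smul])) (mul_ne_zero ?_ ?_))
    (P.pow_toEnd_f_ne_zero_of_eq_nat rfl (Nat.le_of_succ_le hlen))
  · exact_mod_cast Nat.succ_ne_zero t
  · rw [sub_ne_zero]; exact_mod_cast (Nat.lt_of_succ_le hlen).ne'

/-- Values of a root on `hᵢ` through the root string. -/
theorem chain_facts {χ : Module.Dual K H} (h : R₀ H χ ≠ ⊥) (i : ι) :
    ∃ p q : ℕ, χ (b.h' i) = ((q : ℤ) - p : ℤ) ∧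
      ∀ n : ℤ, R₀ H (n • b.baseSupp i + χ) ≠ ⊥ ↔ n ≤ p ∧ -n ≤ q := by
  refine ⟨chainTopCoeff (wt b i) (toWt h), chainBotCoeff (wt b i) (toWt h), ?_, fun n => ?_⟩
  · rw [← coroot_wt b i]
    exact IsKilling.apply_coroot_eq_cast (wt b i) (toWt h)
  · rw [ne_bot_iff, zsmul_add_coe]
    exact IsKilling.rootSpace_zsmul_add_ne_bot_iff (wt b i) (toWt h) (wt_isNonZero b i) n

theorem baseSupp_apply_self (i : ι) : b.baseSupp i (b.h' i) = 2 := by
  haveI : IsAddTorsionFree L := .of_isTorsionFree K L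
  rw [b.baseSupp_apply_h', b.A_diag_eq_two]
  norm_num

theorem A_eq_zero_symm {i j : ι} (h : b.A i j = 0) : b.A j i = 0 := by
  have h1 : b.baseSupp i (b.h' j) = 0 := by rw [b.baseSupp_apply_h', h]; simp
  have hi : wt b i ∈ H.root := by simpa using wt_isNonZero b i
  have hj : wt b j ∈ H.root := by simpa using wt_isNonZero b j
  have h2 := ((IsKilling.rootSystem H).pairing_eq_zero_iff (i := ⟨wt b i, hi⟩) (j := ⟨wt b j, hj⟩)).1 (by
    rw [IsKilling.rootSystem_pairing_apply, coroot_wt]; exact h1)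
  rw [IsKilling.rootSystem_pairing_apply, coroot_wt] at h2
  have h3 : (b.baseSupp j) (b.h' i) = 0 := h2
  rw [b.baseSupp_apply_h'] at h3
  exact_mod_cast h3

theorem eq_zero_of_forall_baseSupp {y : H} (hy : ∀ i, b.baseSupp i y = 0) : y = 0 := by
  haveI : FiniteDimensional K H := inferInstance
  have hsp : Submodule.span K (Set.range b.baseSupp) = ⊤ :=
    b.linearIndependent_baseSupp.span_eq_top_of_card_eq_finrank' (by
      rw [Subspace.dual_finrank_eq]
      have := congrArg (fun S : Submodule K L => finrank K S) b.coe_cartan_eq_span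
      rw [finrank_span_eq_card b.linInd] at this
      exact this.symm)
  refine (Module.forall_dual_apply_eq_zero_iff K y).1 fun φ => ?_
  have hφ : φ ∈ Submodule.span K (Set.range b.baseSupp) := hsp ▸ Submodule.mem_top
  induction hφ using Submodule.span_induction with
  | mem u hu => obtain ⟨i, rfl⟩ := hu; exact hy i
  | zero => rfl
  | add u v _ _ hu hv => rw [LinearMap.add_apply, hu, hv, add_zero]
  | smul c u _ hu => rw [LinearMap.smul_apply, hu, smul_zero]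

theorem sum_inj {n : ι → ℕ} (h : ∑ i, n i • b.baseSupp i = 0) : n = 0 := by
  funext i
  exact Fintype.linearIndependent_iffₛ.mp (b.linearIndependent_baseSupp.restrict_scalars' ℕ) n 0
    (h.trans (Finset.sum_eq_zero fun l _ => zero_smul ℕ _).symm) i

/-- Descendants of a vector under the lowering operators. -/
inductive Wd (x : L) (χ : Module.Dual K H) : L → Module.Dual K H → Prop
  | base : Wd x χ x χ
  | step {v : L} {ψ : Module.Dual K H} (i : ι) : Wd x χ v ψ → Wd x χ ⁅b.f i, v⁆ (ψ - b.baseSupp i)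

section Simple

variable [LieAlgebra.IsSimple K L]

/-- Uniqueness of the highest root. -/
theorem exists_eq_sub_of_forall_lie_eq_zero {χ ψ : Module.Dual K H} {x : L} (hx : x ∈ R₀ H χ) (hx0 : x ≠ 0)
    (he : ∀ i, ⁅b.e i, x⁆ = 0) (hψ : R₀ H ψ ≠ ⊥) : ∃ n : ι → ℕ, ψ = χ - ∑ i, n i • b.baseSupp i := by
  classical
  let S : Set L := {v | ∃ φ, Wd b x χ v φ}
  let V := Submodule.span K S
  have hw : ∀ {v φ}, Wd b x χ v φ → v ∈ R₀ H φ ∧ ∃ n : ι → ℕ, φ = χ - ∑ i, n i • b.baseSupp i := by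
    intro v φ h
    induction h with
    | base => exact ⟨hx, 0, by simp⟩
    | step i _ ih =>
      obtain ⟨h1, n, hn⟩ := ih
      refine ⟨by rw [sub_eq_neg_add]; exact lie_mem (f_mem b i) h1, n + Pi.single i 1, ?_⟩
      rw [hn]
      simp only [Pi.add_apply, add_smul, Finset.sum_add_distrib, Pi.single_apply, ite_smul, one_smul, zero_smul,
        Finset.sum_ite_eq', Finset.mem_univ, if_true]
      abel
  have hh : ∀ (i : ι) {v φ}, Wd b x χ v φ → ⁅b.h i, v⁆ ∈ V := fun i v φ h => by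
    rw [show b.h i = ((b.h' i : H) : L) from rfl, lie_eq (hw h).1]
    exact V.smul_mem _ (Submodule.subset_span ⟨φ, h⟩)
  have hf : ∀ (i : ι), ∀ v ∈ V, ⁅b.f i, v⁆ ∈ V := fun i v hv => by
    refine (Submodule.span_le (p := V.comap (toEnd K L L (b.f i) : L →ₗ[K] L))).2 ?_ hv
    rintro u ⟨φ, hu⟩
    exact Submodule.subset_span ⟨_, hu.step i⟩
  have he' : ∀ {v φ}, Wd b x χ v φ → ∀ i : ι, ⁅b.e i, v⁆ ∈ V := by
    intro v φ h
    induction h with
    | base => intro i; rw [he i]; exact V.zero_mem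
    | @step v ψ j hv ih =>
      intro i
      rw [leibniz_lie]
      refine V.add_mem ?_ (hf j _ (ih i))
      by_cases hij : i = j
      · subst hij; rw [(b.sl2 i).lie_e_f]; exact hh i hv
      · rw [b.lie_e_f_ne i j hij, zero_lie]; exact V.zero_mem
  have he'' : ∀ (i : ι), ∀ v ∈ V, ⁅b.e i, v⁆ ∈ V := fun i v hv => by
    refine (Submodule.span_le (p := V.comap (toEnd K L L (b.e i) : L →ₗ[K] L))).2 ?_ hv
    rintro u ⟨φ, hu⟩
    exact he' hu i
  have hall : ∀ y : L, ∀ v ∈ V, ⁅y, v⁆ ∈ V := by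
    intro y
    have hy : y ∈ LieSubalgebra.lieSpan K L (range b.e ∪ range b.f) := by rw [b.span_ef]; trivial
    induction hy using LieSubalgebra.lieSpan_induction with
    | mem u hu =>
      rcases hu with ⟨i, rfl⟩ | ⟨i, rfl⟩
      · exact he'' i
      · exact hf i
    | zero => intro v _; rw [zero_lie]; exact V.zero_mem
    | add u w _ _ hu hw => intro v hv; rw [add_lie]; exact V.add_mem (hu v hv) (hw v hv)
    | smul c u _ hu => intro v hv; rw [smul_lie]; exact V.smul_mem c (hu v hv)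
    | lie u w _ _ hu hw => intro v hv; rw [lie_lie]; exact V.sub_mem (hu _ (hw v hv)) (hw _ (hu v hv))
  let I : LieIdeal K L := { V with lie_mem := fun {y v} hv => hall y v hv }
  have hI : I = ⊤ := (IsSimple.eq_bot_or_eq_top I).resolve_left fun h => hx0 <| by
    have h1 : x ∈ I := Submodule.subset_span ⟨χ, Wd.base⟩
    rw [h] at h1
    exact (LieSubmodule.mem_bot x).1 h1
  let s : Set (H → K) := {f | ∃ n : ι → ℕ, f = ((χ - ∑ i, n i • b.baseSupp i : Module.Dual K H) : H → K)}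
  have hs : ⨆ f ∈ s, rootSpace H f = ⊤ := by
    rw [← LieSubmodule.toSubmodule_inj, LieSubmodule.top_toSubmodule, eq_top_iff]
    intro v _
    have hv : v ∈ V := show v ∈ I from hI ▸ LieSubmodule.mem_top v
    refine (Submodule.span_le).2 ?_ hv
    rintro u ⟨φ, hu⟩
    obtain ⟨h1, n, hn⟩ := hw hu
    exact (le_iSup₂ (f := fun f (_ : f ∈ s) => rootSpace H f) (φ : H → K) ⟨n, by rw [hn]⟩) h1
  obtain ⟨n, hn⟩ := (iSupIndep_genWeightSpace K H L).mem_of_biSup_eq_top hs (ne_bot_iff.1 hψ)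
  exact ⟨n, DFunLike.coe_injective hn⟩

variable {ρ : Module.Dual K H}

theorem eq_top_root (hρ : R₀ H ρ ≠ ⊥) (htop : ∀ i, R₀ H (ρ + b.baseSupp i) = ⊥) {χ : Module.Dual K H} {x : L}
    (hx : x ∈ R₀ H χ) (hx0 : x ≠ 0) (he : ∀ i, ⁅b.e i, x⁆ = 0) : χ = ρ := by
  obtain ⟨y, hy, hy0⟩ := (Submodule.ne_bot_iff _).1 hρ
  have hey : ∀ i, ⁅b.e i, y⁆ = 0 := fun i => by
    have := lie_mem (e_mem b i) hy
    rw [add_comm, htop i] at this
    exact this
  obtain ⟨n, hn⟩ := exists_eq_sub_of_forall_lie_eq_zero b hx hx0 he hρ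
  obtain ⟨m, hm⟩ := exists_eq_sub_of_forall_lie_eq_zero b hy hy0 hey ((Submodule.ne_bot_iff _).2 ⟨x, hx, hx0⟩)
  have : ∑ i, (n i + m i) • b.baseSupp i = 0 := by
    simp only [add_smul, Finset.sum_add_distrib]
    have h := hm
    rw [eq_sub_iff_add_eq] at h hn
    rw [← hn, add_assoc, add_eq_left] at h
    exact h
  have hm0 : m = 0 := by
    funext i
    exact (Nat.add_eq_zero.1 (congrFun (sum_inj b this) i)).2
  rw [hm, hm0]; simp

end Simple

section Stable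

variable (W : Submodule K L)
  (hst : ∀ x ∈ H.toSubmodule ⊔ (b.borelUpper : Submodule K L), ∀ w ∈ W, ⁅x, w⁆ ∈ W)

include hst

theorem lie_e_mem (i : ι) {w : L} (hw : w ∈ W) : ⁅b.e i, w⁆ ∈ W :=
  hst _ (Submodule.mem_sup_right (LieSubalgebra.subset_lieSpan ⟨i, rfl⟩)) w hw

theorem lie_h_mem (y : H) {w : L} (hw : w ∈ W) : ⁅(y : L), w⁆ ∈ W :=
  hst _ (Submodule.mem_sup_left y.2) w hw

theorem decompose : W ≤ ⨆ χ : {χ : Module.Dual K H // R₀ H χ ≠ ⊥}, W ⊓ R₀ H χ.1 := by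
  let N : LieSubmodule K H L := { W with lie_mem := fun {y w} hw => lie_h_mem b W hst y hw }
  intro w hw
  have h : w ∈ (N : Submodule K L) := hw
  rw [eq_iSup_inf_genWeightSpace K H L N, LieSubmodule.iSup_toSubmodule] at h
  refine (iSup_le fun χ => ?_ : (⨆ χ : Weight K H L, (N ⊓ genWeightSpace L χ : LieSubmodule K H L).toSubmodule) ≤ _) h
  by_cases hb : R₀ H χ.toLinear = ⊥
  · exact absurd ((LieSubmodule.toSubmodule_eq_bot _).1 hb) χ.genWeightSpace_ne_bot
  · refine le_trans ?_ (le_iSup _ (⟨χ.toLinear, hb⟩ : {χ : Module.Dual K H // R₀ H χ ≠ ⊥}))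
    rw [LieSubmodule.inf_toSubmodule]
    rfl

theorem zero_weight {x : L} (hx : x ∈ R₀ H (0 : Module.Dual K H)) (hx0 : x ≠ 0) (hW : x ∈ W) :
    ∃ i, R₀ H (b.baseSupp i) ≤ W := by
  have hxH : x ∈ H := by
    have : x ∈ rootSpace H (0 : H → K) := hx
    rw [rootSpace_zero_eq, LieSubalgebra.mem_toLieSubmodule] at this
    exact this
  obtain ⟨i, hi⟩ : ∃ i, b.baseSupp i ⟨x, hxH⟩ ≠ 0 := by
    by_contra h
    push Not at h
    exact hx0 (congrArg Subtype.val (eq_zero_of_forall_baseSupp b h))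
  refine ⟨i, le_of_mem (baseSupp_ne_zero b i) (e_mem b i) (b.sl2 i).e_ne_zero ?_⟩
  have h1 := lie_e_mem b W hst i hW
  have h2 : ⁅x, b.e i⁆ = b.baseSupp i ⟨x, hxH⟩ • b.e i := lie_eq (e_mem b i) ⟨x, hxH⟩
  rw [← lie_skew, h2, neg_mem_iff] at h1
  exact (W.smul_mem_iff hi).1 h1

variable [LieAlgebra.IsSimple K L] {ρ : Module.Dual K H}

/-- Every weight of `W` other than `ρ` can be raised inside `W`. -/
theorem raise (hρ : R₀ H ρ ≠ ⊥) (htop : ∀ i, R₀ H (ρ + b.baseSupp i) = ⊥) {χ : Module.Dual K H}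
    (hχρ : χ ≠ ρ) {x : L} (hx : x ∈ R₀ H χ) (hx0 : x ≠ 0) (hW : x ∈ W) :
    ∃ i, ⁅b.e i, x⁆ ≠ 0 ∧ ⁅b.e i, x⁆ ∈ R₀ H (χ + b.baseSupp i) ∧ ⁅b.e i, x⁆ ∈ W := by
  obtain ⟨i, hi⟩ : ∃ i, ⁅b.e i, x⁆ ≠ 0 := by
    by_contra h
    push Not at h
    exact hχρ (eq_top_root b hρ htop hx hx0 h)
  exact ⟨i, hi, by rw [add_comm]; exact lie_mem (e_mem b i) hx, lie_e_mem b W hst i hW⟩

omit hst in
theorem finite_weights : {χ : Module.Dual K H | R₀ H χ ≠ ⊥}.Finite := by
  refine ((Set.finite_range fun χ : Weight K H L => χ.toLinear)).subset fun χ hχ => ⟨toWt hχ, ?_⟩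
  ext; rfl

/-- `W` contains a vector of weight `ρ - αᵢ` as soon as it has a weight different from `ρ`. -/
theorem exists_sub_mem (hρ : R₀ H ρ ≠ ⊥) (htop : ∀ i, R₀ H (ρ + b.baseSupp i) = ⊥) {χ : Module.Dual K H}
    (hχρ : χ ≠ ρ) {x : L} (hx : x ∈ R₀ H χ) (hx0 : x ≠ 0) (hW : x ∈ W) :
    ∃ i, ∃ y ∈ W, y ∈ R₀ H (ρ - b.baseSupp i) ∧ y ≠ 0 := by
  classical
  let P := {ψ : Module.Dual K H // R₀ H ψ ≠ ⊥}
  haveI : Finite P := (finite_weights (K := K) (L := L) (H := H)).to_subtype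
  let r : P → P → Prop := fun φ ψ => ∃ n : ι → ℕ, n ≠ 0 ∧ φ.1 = ψ.1 + ∑ i, n i • b.baseSupp i
  haveI : IsTrans P r := ⟨fun a c d ⟨n, hn, h⟩ ⟨m, hm, h'⟩ => ⟨n + m, fun e => hn (funext fun i =>
    (Nat.add_eq_zero.1 (congrFun e i)).1), by
      rw [h, h']; simp only [Pi.add_apply, add_smul, Finset.sum_add_distrib]; abel⟩⟩
  haveI : Std.Irrefl r := ⟨fun a ⟨n, hn, h⟩ => hn (sum_inj b (add_eq_left.1 h.symm))⟩
  suffices ∀ ψ : P, ψ.1 ≠ ρ → ∀ x ∈ R₀ H ψ.1, x ≠ 0 → x ∈ W →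
      ∃ i, ∃ y ∈ W, y ∈ R₀ H (ρ - b.baseSupp i) ∧ y ≠ 0 from
    this ⟨χ, (Submodule.ne_bot_iff _).2 ⟨x, hx, hx0⟩⟩ hχρ x hx hx0 hW
  intro ψ
  induction ψ using (Finite.wellFounded_of_trans_of_irrefl r).induction with
  | _ ψ ih =>
    intro hψ x hx hx0 hW
    obtain ⟨i, h1, h2, h3⟩ := raise b W hst hρ htop hψ hx hx0 hW
    by_cases h : ψ.1 + b.baseSupp i = ρ
    · exact ⟨i, x, hW, by rwa [← h, add_sub_cancel_right], hx0⟩
    · refine ih ⟨_, (Submodule.ne_bot_iff _).2 ⟨_, h2, h1⟩⟩ ⟨Pi.single i 1, by simp, ?_⟩ h _ h2 h1 h3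
      simp [Pi.single_apply, ite_smul]

theorem rho_le (hρ : R₀ H ρ ≠ ⊥) (hρ0 : ρ ≠ 0) (htop : ∀ i, R₀ H (ρ + b.baseSupp i) = ⊥) (hW : W ≠ ⊥) :
    R₀ H ρ ≤ W := by
  obtain ⟨⟨χ, hχ⟩, hne⟩ : ∃ χ : {χ : Module.Dual K H // R₀ H χ ≠ ⊥}, W ⊓ R₀ H χ.1 ≠ ⊥ := by
    by_contra h
    push Not at h
    exact hW (le_bot_iff.1 ((decompose b W hst).trans (by simp [h])))
  obtain ⟨x, ⟨hxW, hx⟩, hx0⟩ := (Submodule.ne_bot_iff _).1 hne
  by_cases hχρ : χ = ρ
  · subst hχρ; exact le_of_mem hρ0 hx hx0 hxW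
  obtain ⟨i, y, hyW, hy, hy0⟩ := exists_sub_mem b W hst hρ htop hχρ hx hx0 hxW
  obtain ⟨k, h1, h2, h3⟩ := raise b W hst hρ htop (by
    intro e; exact baseSupp_ne_zero b i (sub_eq_self.1 e)) hy hy0 hyW
  -- the raised vector has weight `ρ - αᵢ + αₖ`
  by_cases hki : k = i
  · subst hki; rw [sub_add_cancel] at h2; exact le_of_mem hρ0 h2 h1 h3
  exfalso
  obtain ⟨y', hy', hy'0⟩ := (Submodule.ne_bot_iff _).1 hρ
  obtain ⟨n, hn⟩ := exists_eq_sub_of_forall_lie_eq_zero b hy' hy'0 (fun l => by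
    have := lie_mem (e_mem b l) hy'
    rw [add_comm, htop l] at this
    exact this) ((Submodule.ne_bot_iff _).2 ⟨_, h2, h1⟩)
  classical
  have h4 : ∑ l, (n l + (if l = k then 1 else 0)) • b.baseSupp l = b.baseSupp i := by
    simp only [add_smul, ite_smul, one_smul, zero_smul, Finset.sum_add_distrib, Finset.sum_ite_eq', Finset.mem_univ, if_true]
    rw [show b.baseSupp i = ρ - (ρ - b.baseSupp i + b.baseSupp k) + b.baseSupp k by abel, hn, sub_sub_cancel]
  have h5 := Fintype.linearIndependent_iffₛ.mp (b.linearIndependent_baseSupp.restrict_scalars' ℕ)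
    (fun l => n l + if l = k then 1 else 0) (Pi.single i 1) (by simpa [Pi.single_apply, ite_smul] using h4) k
  simp [Pi.single_apply, hki] at h5

end Stable

end Groth.Agent.AdjBorel
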