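import Groth.Agent.AdjBorel.Basic
import Mathlib.LinearAlgebra.QuadraticForm.Basic

/-!
# The Borel-stable lines and planes in the adjoint variety
-/

set_option autoImplicit false

universe u v w

open LieAlgebra LieModule Module Set

noncomputable section

namespace Groth.Agent.AdjBorel

variable {ι : Type u} {K : Type v} {L : Type w} [Fintype ι] [Field K] [CharZero K]
  [IsAlgClosed K] [LieRing L] [LieAlgebra K L] [FiniteDimensional K L] [LieAlgebra.IsKilling K L]
  {H : LieSubalgebra K L} [H.IsCartanSubalgebra] (b : LieAlgebra.Basis ι H)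

theorem eq_zero_of_mem_sup {χ a c d : Module.Dual K H} (ha : χ ≠ a) (hc : χ ≠ c) (hd : χ ≠ d) {x : L}
    (hx : x ∈ R₀ H χ) (h : x ∈ R₀ H a ⊔ R₀ H c ⊔ R₀ H d) : x = 0 := by
  have h1 := (iSupIndep_genWeightSpace K H L) (χ : H → K)
  rw [disjoint_iff, ← LieSubmodule.toSubmodule_inj, LieSubmodule.inf_toSubmodule, LieSubmodule.bot_toSubmodule] at h1
  refine (Submodule.mem_bot K).1 (h1 ▸ Submodule.mem_inf.2 ⟨hx, ?_⟩)
  have key : ∀ φ : Module.Dual K H, χ ≠ φ → R₀ H φ ≤
      (⨆ f, ⨆ (_ : f ≠ (χ : H → K)), genWeightSpace L f : LieSubmodule K H L).toSubmodule := fun φ hφ =>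
    LieSubmodule.toSubmodule_le_toSubmodule _ _ |>.2 <| le_iSup₂ (f := fun (f : H → K) (_ : f ≠ (χ : H → K)) =>
      genWeightSpace L f) (φ : H → K) fun e => hφ (DFunLike.coe_injective e).symm
  exact sup_le (sup_le (key a ha) (key c hc)) (key d hd) h

theorem inf_eq_bot {χ a : Module.Dual K H} (ha : χ ≠ a) : R₀ H χ ⊓ R₀ H a = ⊥ := by
  refine (Submodule.eq_bot_iff _).2 fun x hx => eq_zero_of_mem_sup ha ha ha hx.1 ?_
  exact Submodule.mem_sup_right hx.2

theorem finrank_sup_two {a c : Module.Dual K H} (ha : R₀ H a ≠ ⊥) (hc : R₀ H c ≠ ⊥) (ha0 : a ≠ 0) (hc0 : c ≠ 0)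
    (hac : a ≠ c) : finrank K ↥(R₀ H a ⊔ R₀ H c) = 2 := by
  have := Submodule.finrank_sup_add_finrank_inf_eq (R₀ H a) (R₀ H c)
  rw [inf_eq_bot hac, finrank_bot, finrank_eq_one ha ha0, finrank_eq_one hc hc0] at this
  omega

theorem finrank_sup_three {a c d : Module.Dual K H} (ha : R₀ H a ≠ ⊥) (hc : R₀ H c ≠ ⊥) (hd : R₀ H d ≠ ⊥)
    (ha0 : a ≠ 0) (hc0 : c ≠ 0) (hd0 : d ≠ 0) (hac : a ≠ c) (hda : d ≠ a) (hdc : d ≠ c) :
    finrank K ↥(R₀ H a ⊔ R₀ H c ⊔ R₀ H d) = 3 := by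
  have h := Submodule.finrank_sup_add_finrank_inf_eq (R₀ H a ⊔ R₀ H c) (R₀ H d)
  rw [show (R₀ H a ⊔ R₀ H c) ⊓ R₀ H d = ⊥ from (Submodule.eq_bot_iff _).2 fun x hx =>
    eq_zero_of_mem_sup hda hdc hdc hx.2 (Submodule.mem_sup_left hx.1), finrank_bot,
    finrank_sup_two ha hc ha0 hc0 hac, finrank_eq_one hd hd0] at h
  omega

theorem key3 : ∀ a d : Fin 3, ((![0, 1, 1] : Fin 3 → ℕ) a + ![0, 1, 1] a = ![0, 1, 1] d + ![0, 1, 1] d ∧
    (![0, 0, 1] : Fin 3 → ℕ) a + ![0, 0, 1] a = ![0, 0, 1] d + ![0, 0, 1] d) → a = d := by decide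

omit [IsAlgClosed K] in
/-- A quadratic form with at most one non-zero entry in a basis. -/
theorem rank_le_one_of_polar {M : Type w} [AddCommGroup M] [Module K M] (q : QuadraticForm K M)
    (B : Module.Basis (Fin 3) K M)
    (hoff : ∀ a a', a ≠ a' → QuadraticMap.polarBilin q (B a) (B a') = 0)
    (hd : ∀ a a', QuadraticMap.polarBilin q (B a) (B a) ≠ 0 → QuadraticMap.polarBilin q (B a') (B a') ≠ 0 → a = a') :
    ∃ (ℓ : Module.Dual K M) (c : K), ∀ w : M, q w = c * ℓ w ^ 2 := by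
  classical
  set P := QuadraticMap.polarBilin q with hP
  obtain ⟨d, hd⟩ : ∃ d, ∀ a, a ≠ d → P (B a) (B a) = 0 := by
    by_cases h : ∃ a, P (B a) (B a) ≠ 0
    · obtain ⟨d, hd'⟩ := h
      exact ⟨d, fun a ha => by by_contra ha'; exact ha (hd a d ha' hd')⟩
    · push Not at h
      exact ⟨0, fun a _ => h a⟩
  refine ⟨B.coord d, P (B d) (B d) / 2, fun w => ?_⟩
  have h2 : P w w = 2 * q w := by
    show QuadraticMap.polar q w w = _
    rw [QuadraticMap.polar_self]; simp [two_mul, two_nsmul]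
  have hexp : P w w = B.coord d w * (B.coord d w * P (B d) (B d)) := by
    conv_lhs => rw [← B.sum_repr w]
    simp only [map_sum, map_smul, LinearMap.coe_sum, Finset.sum_apply, LinearMap.smul_apply, smul_eq_mul]
    rw [Finset.sum_eq_single_of_mem d (Finset.mem_univ _) fun a _ ha => ?_]
    · rw [Finset.sum_eq_single_of_mem d (Finset.mem_univ _) fun a _ ha => by simp [hoff a d ha]]
      simp [Module.Basis.coord_apply]
    · rw [Finset.mul_sum]
      refine Finset.sum_eq_zero fun a' _ => ?_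
      by_cases h : a' = a
      · subst h; rw [hd a' ha, mul_zero, mul_zero]
      · rw [hoff a' a h, mul_zero, mul_zero]
  rw [h2] at hexp
  linear_combination (1 / 2 : K) * hexp

variable [LieAlgebra.IsSimple K L] {ρ : Module.Dual K H} (hρ : R₀ H ρ ≠ ⊥)
  (htop : ∀ i, R₀ H (ρ + b.baseSupp i) = ⊥) {j : ι}
  (hN : ∀ i, ρ (b.h' i) ≠ 0 ↔ i = j) (hj : ρ (b.h' j) = 1)

include hj in
theorem rho_ne_zero : ρ ≠ 0 := fun h => by rw [h, LinearMap.zero_apply] at hj; exact zero_ne_one hj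

include hj in
theorem beta_ne_zero : ρ - b.baseSupp j ≠ 0 := fun h => by
  have h1 : (ρ - b.baseSupp j) (b.h' j) = 0 := by rw [h, LinearMap.zero_apply]
  rw [LinearMap.sub_apply, hj, baseSupp_apply_self] at h1
  norm_num at h1

include hρ htop in
theorem root_above (f : ι → ℕ) {φ : Module.Dual K H} (hφ : R₀ H φ ≠ ⊥) {g : ι → ℕ}
    (h : φ = ρ - ∑ l, f l • b.baseSupp l + ∑ l, g l • b.baseSupp l) : g ≤ f := by
  obtain ⟨y, hy, hy0⟩ := (Submodule.ne_bot_iff _).1 hρ
  obtain ⟨n, hn⟩ := exists_eq_sub_of_forall_lie_eq_zero b hy hy0 (fun l => by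
    have := lie_mem (e_mem b l) hy
    rw [add_comm, htop l] at this
    exact this) hφ
  have h1 : ∑ l, (n l + g l) • b.baseSupp l = ∑ l, f l • b.baseSupp l := by
    simp only [add_smul, Finset.sum_add_distrib]
    rw [h] at hn
    rw [eq_sub_iff_add_eq] at hn
    calc ∑ l, n l • b.baseSupp l + ∑ l, g l • b.baseSupp l
        = (ρ - ∑ l, f l • b.baseSupp l + ∑ l, g l • b.baseSupp l + ∑ l, n l • b.baseSupp l) - ρ +
            ∑ l, f l • b.baseSupp l := by abel
      _ = _ := by rw [hn]; abel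
  intro l
  have := Fintype.linearIndependent_iffₛ.mp (b.linearIndependent_baseSupp.restrict_scalars' ℕ) _ _ h1 l
  show g l ≤ f l
  omega

include hρ htop in
theorem sub_add_eq_bot {i k : ι} (hki : k ≠ i) : R₀ H (ρ - b.baseSupp i + b.baseSupp k) = ⊥ := by
  classical
  by_contra h
  have h1 := root_above b hρ htop (Pi.single i 1) h (g := Pi.single k 1)
    (by simp [Pi.single_apply, ite_smul]) k
  simp [hki] at h1

include hρ htop in
theorem sub_sub_add_eq_bot {i k l : ι} (hki : k ≠ i) (hkl : k ≠ l) :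
    R₀ H (ρ - b.baseSupp i - b.baseSupp l + b.baseSupp k) = ⊥ := by
  classical
  by_contra h
  have h1 := root_above b hρ htop (Pi.single i 1 + Pi.single l 1) h (g := Pi.single k 1)
    (by simp [Pi.single_apply, ite_smul, add_smul, Finset.sum_add_distrib, sub_sub]) k
  simp [hki, hkl] at h1

include hρ htop hN hj in
theorem zsmul_rho_iff (i : ι) (n : ℕ) : R₀ H (ρ - n • b.baseSupp i) ≠ ⊥ → n = 0 ∨ (i = j ∧ n = 1) := by
  intro h
  obtain ⟨p, q, hq, hiff⟩ := chain_facts b hρ i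
  have hp : p = 0 := by
    by_contra hp
    exact (hiff 1).2 ⟨by omega, by omega⟩ (by rw [one_smul, add_comm]; exact htop i)
  have hn := ((hiff (-(n : ℤ))).1 (by rwa [neg_smul, natCast_zsmul, neg_add_eq_sub])).2
  subst hp
  simp only [Nat.cast_zero, sub_zero, neg_neg, Nat.cast_le, Int.cast_natCast] at hq hn
  by_cases hij : i = j
  · subst hij
    rw [hj] at hq
    have : q = 1 := by exact_mod_cast hq.symm
    subst this
    rcases Nat.le_one_iff_eq_zero_or_eq_one.1 hn with h | h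
    · exact Or.inl h
    · exact Or.inr ⟨rfl, h⟩
  · have : q = 0 := by
      have h0 : ρ (b.h' i) = 0 := by
        by_contra h0; exact hij ((hN i).1 h0)
      rw [h0] at hq
      exact_mod_cast hq.symm
    exact Or.inl (by omega)

include hρ htop hj in
theorem beta_ne_bot : R₀ H (ρ - b.baseSupp j) ≠ ⊥ := by
  obtain ⟨p, q, hq, hiff⟩ := chain_facts b hρ j
  have hp : p = 0 := by
    by_contra hp
    exact (hiff 1).2 ⟨by omega, by omega⟩ (by rw [one_smul, add_comm]; exact htop j)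
  subst hp
  simp only [Nat.cast_zero, sub_zero, Int.cast_natCast] at hq
  rw [hj] at hq
  have : q = 1 := by exact_mod_cast hq.symm
  subst this
  have := (hiff (-1)).2 ⟨by omega, by omega⟩
  rwa [neg_one_zsmul, neg_add_eq_sub] at this

include hN hj in
theorem rho_ne_baseSupp (i : ι) : ρ ≠ b.baseSupp i := fun h => by
  have h1 : ρ (b.h' i) = 2 := by rw [h, baseSupp_apply_self]
  obtain rfl := (hN i).1 (by rw [h1]; norm_num)
  rw [hj] at h1
  norm_num at h1

include hρ htop hN hj in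
theorem beta_ne_baseSupp (i : ι) : ρ - b.baseSupp j ≠ b.baseSupp i := fun h => by
  rw [sub_eq_iff_eq_add] at h
  by_cases hij : i = j
  · subst hij
    have h1 := hj
    rw [h, LinearMap.add_apply, baseSupp_apply_self] at h1
    norm_num at h1
  · have h1 : ρ (b.h' i) = 0 := by
      by_contra h0; exact hij ((hN i).1 h0)
    rw [h, LinearMap.add_apply, baseSupp_apply_self] at h1
    have hjne : R₀ H (b.baseSupp j) ≠ ⊥ :=
      (Submodule.ne_bot_iff _).2 ⟨_, e_mem b j, (b.sl2 j).e_ne_zero⟩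
    obtain ⟨p, q, hq, hiff⟩ := chain_facts b hjne i
    have h2 : ((q : ℤ) - p : ℤ) = -2 := by
      have : (((q : ℤ) - p : ℤ) : K) = ((-2 : ℤ) : K) := by
        rw [← hq]; push_cast; linear_combination h1
      exact_mod_cast this
    refine (hiff 2).2 ⟨by omega, by omega⟩ ?_
    rw [two_zsmul, add_assoc, ← h, add_comm]
    exact htop i

section Stable

variable (W : Submodule K L)
  (hst : ∀ x ∈ H.toSubmodule ⊔ (b.borelUpper : Submodule K L), ∀ w ∈ W, ⁅x, w⁆ ∈ W)

include hρ htop hN hj hst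

theorem two_le (hW : 2 ≤ finrank K W) : R₀ H ρ ⊔ R₀ H (ρ - b.baseSupp j) ≤ W := by
  have h0 := rho_ne_zero b hj
  have hρW := rho_le b W hst hρ h0 htop (fun h => by rw [h, finrank_bot] at hW; omega)
  refine sup_le hρW ?_
  obtain ⟨⟨χ, hχ⟩, hχρ, hne⟩ : ∃ χ : {χ : Module.Dual K H // R₀ H χ ≠ ⊥}, χ.1 ≠ ρ ∧ W ⊓ R₀ H χ.1 ≠ ⊥ := by
    by_contra h
    push Not at h
    have h1 : W ≤ R₀ H ρ := (decompose b W hst).trans (iSup_le fun χ => by
      by_cases hχ : χ.1 = ρ
      · rw [hχ]; exact inf_le_right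
      · rw [h χ hχ]; exact bot_le)
    have := Submodule.finrank_mono h1
    rw [finrank_eq_one hρ h0] at this
    omega
  obtain ⟨x, ⟨hxW, hx⟩, hx0⟩ := (Submodule.ne_bot_iff _).1 hne
  obtain ⟨i, y, hyW, hy, hy0⟩ := exists_sub_mem b W hst hρ htop hχρ hx hx0 hxW
  rcases zsmul_rho_iff b hρ htop hN hj i 1 (by rw [one_smul]; exact (Submodule.ne_bot_iff _).2 ⟨y, hy, hy0⟩) with
    h | ⟨rfl, -⟩
  · exact absurd h one_ne_zero
  · exact le_of_mem (beta_ne_zero b hj) hy hy0 hyW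

theorem three_eq (hW : finrank K W = 3) :
    ∃ i : ι, i ≠ j ∧ b.A i j ≠ 0 ∧ R₀ H (ρ - b.baseSupp j - b.baseSupp i) ≠ ⊥ ∧
      ρ - b.baseSupp j - b.baseSupp i ≠ 0 ∧
      W = R₀ H ρ ⊔ R₀ H (ρ - b.baseSupp j) ⊔ R₀ H (ρ - b.baseSupp j - b.baseSupp i) := by
  have h0 := rho_ne_zero b hj
  have hβ0 := beta_ne_zero b hj
  have hβ := beta_ne_bot b hρ htop hj
  have hρβ : ρ ≠ ρ - b.baseSupp j := fun h => baseSupp_ne_zero b j (sub_eq_self.1 h.symm)
  have hA := two_le b hρ htop hN hj W hst (by omega)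
  obtain ⟨⟨χ, hχ⟩, hχρ, hχβ, hne⟩ : ∃ χ : {χ : Module.Dual K H // R₀ H χ ≠ ⊥},
      χ.1 ≠ ρ ∧ χ.1 ≠ ρ - b.baseSupp j ∧ W ⊓ R₀ H χ.1 ≠ ⊥ := by
    by_contra h
    push Not at h
    have h1 : W ≤ R₀ H ρ ⊔ R₀ H (ρ - b.baseSupp j) := (decompose b W hst).trans (iSup_le fun χ => by
      by_cases hχ : χ.1 = ρ
      · rw [hχ]; exact inf_le_right.trans le_sup_left
      by_cases hχ' : χ.1 = ρ - b.baseSupp j
      · rw [hχ']; exact inf_le_right.trans le_sup_right
      · rw [h χ hχ hχ']; exact bot_le)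
    have := Submodule.finrank_mono h1
    rw [finrank_sup_two hρ hβ h0 hβ0 hρβ] at this
    omega
  obtain ⟨x, ⟨hxW, hx⟩, hx0⟩ := (Submodule.ne_bot_iff _).1 hne
  have hfill : ∀ {φ : Module.Dual K H}, φ ≠ 0 → φ ≠ ρ → φ ≠ ρ - b.baseSupp j → R₀ H φ ≠ ⊥ → R₀ H φ ≤ W →
      W = R₀ H ρ ⊔ R₀ H (ρ - b.baseSupp j) ⊔ R₀ H φ := fun {φ} a1 a2 a3 a4 a5 =>
    (Submodule.eq_of_le_of_finrank_le (sup_le hA a5)
      (by rw [finrank_sup_three hρ hβ a4 h0 hβ0 a1 hρβ a2 a3, hW])).symm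
  have hχ0 : χ ≠ 0 := by
    rintro rfl
    obtain ⟨i, hi⟩ := zero_weight b W hst hx hx0 hxW
    have hW' := hfill (baseSupp_ne_zero b i) (rho_ne_baseSupp b hN hj i).symm
      (beta_ne_baseSupp b hρ htop hN hj i).symm
      ((Submodule.ne_bot_iff _).2 ⟨_, e_mem b i, (b.sl2 i).e_ne_zero⟩) hi
    exact hx0 (eq_zero_of_mem_sup h0.symm hβ0.symm (baseSupp_ne_zero b i).symm hx (hW' ▸ hxW))
  have hWeq := hfill hχ0 hχρ hχβ hχ (le_of_mem hχ0 hx hx0 hxW)
  obtain ⟨k, h1, h2, h3⟩ := raise b W hst hρ htop hχρ hx hx0 hxW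
  have hk : χ + b.baseSupp k = ρ - b.baseSupp j := by
    by_contra hne'
    by_cases hρ' : χ + b.baseSupp k = ρ
    · rw [← eq_sub_iff_add_eq] at hρ'
      rcases zsmul_rho_iff b hρ htop hN hj k 1 (by rw [one_smul, ← hρ']; exact hχ) with h | ⟨rfl, -⟩
      · exact absurd h one_ne_zero
      · exact hχβ hρ'
    · exact h1 (eq_zero_of_mem_sup hρ' hne' (fun e => baseSupp_ne_zero b k (add_eq_left.1 e)) h2 (hWeq ▸ h3))
  rw [← eq_sub_iff_add_eq] at hk
  subst hk
  have hkj : k ≠ j := by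
    rintro rfl
    rcases zsmul_rho_iff b hρ htop hN hj k 2 (by rwa [two_nsmul, ← sub_sub]) with h | ⟨-, h⟩ <;> omega
  refine ⟨k, hkj, fun hA0 => ?_, hχ, hχ0, hWeq⟩
  have hsym := A_eq_zero_symm b hA0
  obtain ⟨p, q, hq, hiff⟩ := chain_facts b hβ k
  have hq0 : ((q : ℤ) - p : ℤ) = 0 := by
    have : (((q : ℤ) - p : ℤ) : K) = ((0 : ℤ) : K) := by
      rw [← hq, LinearMap.sub_apply, b.baseSupp_apply_h', hsym]
      simp only [Int.cast_zero, sub_zero]
      by_contra h0'; exact hkj ((hN k).1 h0')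
    exact_mod_cast this
  have hq1 := ((hiff (-1)).1 (by rwa [neg_one_zsmul, neg_add_eq_sub])).2
  refine (hiff 1).2 ⟨by omega, by omega⟩ ?_
  rw [one_smul, add_comm]
  exact sub_add_eq_bot b hρ htop hkj

end Stable

include hρ htop hN hj in
theorem stable_two (x : L) (hx : x ∈ H.toSubmodule ⊔ (b.borelUpper : Submodule K L)) :
    ∀ w ∈ R₀ H ρ ⊔ R₀ H (ρ - b.baseSupp j), ⁅x, w⁆ ∈ R₀ H ρ ⊔ R₀ H (ρ - b.baseSupp j) := by
  set W := R₀ H ρ ⊔ R₀ H (ρ - b.baseSupp j) with hWdef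
  have hh : ∀ y : H, ∀ w ∈ W, ⁅(y : L), w⁆ ∈ W := fun y w hw => by
    obtain ⟨u, hu, v, hv, rfl⟩ := Submodule.mem_sup.1 hw
    rw [lie_add, lie_eq hu, lie_eq hv]
    exact W.add_mem (Submodule.mem_sup_left (Submodule.smul_mem _ _ hu))
      (Submodule.mem_sup_right (Submodule.smul_mem _ _ hv))
  have he : ∀ i : ι, ∀ w ∈ W, ⁅b.e i, w⁆ ∈ W := fun i w hw => by
    obtain ⟨u, hu, v, hv, rfl⟩ := Submodule.mem_sup.1 hw
    have h1 := lie_mem (e_mem b i) hu
    rw [add_comm, htop i] at h1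
    have h2 := lie_mem (e_mem b i) hv
    rw [add_comm] at h2
    rw [lie_add, (Submodule.mem_bot K).1 h1, zero_add]
    by_cases hij : i = j
    · subst hij; rw [sub_add_cancel] at h2; exact Submodule.mem_sup_left h2
    · rw [sub_add_eq_bot b hρ htop hij] at h2
      rw [(Submodule.mem_bot K).1 h2]; exact W.zero_mem
  obtain ⟨y, hy, z, hz, rfl⟩ := Submodule.mem_sup.1 hx
  intro w hw
  rw [add_lie]
  refine W.add_mem (hh ⟨y, hy⟩ w hw) ?_
  have hz' : z ∈ LieSubalgebra.lieSpan K L (range b.e) := hz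
  clear hz hx
  induction hz' using LieSubalgebra.lieSpan_induction generalizing w with
  | mem u hu => obtain ⟨i, rfl⟩ := hu; exact he i w hw
  | zero => rw [zero_lie]; exact W.zero_mem
  | add u v _ _ hu hv => rw [add_lie]; exact W.add_mem (hu w hw) (hv w hw)
  | smul c u _ hu => rw [smul_lie]; exact W.smul_mem c (hu w hw)
  | lie u v _ _ hu hv => rw [lie_lie]; exact W.sub_mem (hu _ (hv w hw)) (hv _ (hu w hw))

set_option maxHeartbeats 1600000 in
include hρ htop hN hj in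
/-- A semi-invariant quadratic form on a stable three-dimensional subspace has rank at most one. -/
theorem quadratic_rank_le_one (W : Submodule K L) (hW : finrank K W = 3)
    (hst : ∀ x ∈ H.toSubmodule ⊔ (b.borelUpper : Submodule K L), ∀ w ∈ W, ⁅x, w⁆ ∈ W)
    (q : QuadraticForm K W)
    (hq : ∀ (x : L) (hx : x ∈ H.toSubmodule ⊔ (b.borelUpper : Submodule K L)), ∃ c : K, ∀ w : W,
      QuadraticMap.polar q ⟨⁅x, (w : L)⁆, hst x hx w w.property⟩ w = c * q w) :
    ∃ (ℓ : Module.Dual K W) (c : K), ∀ w : W, q w = c * ℓ w ^ 2 := by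
  classical
  obtain ⟨k, hkj, -, hγ, hγ0, hWeq⟩ := three_eq b hρ htop hN hj W hst hW
  let χ : Fin 3 → Module.Dual K H := ![ρ, ρ - b.baseSupp j, ρ - b.baseSupp j - b.baseSupp k]
  have h0 : ∀ a, χ a ≠ 0 := by
    intro a; fin_cases a
    exacts [rho_ne_zero b hj, beta_ne_zero b hj, hγ0]
  have hne : ∀ a, R₀ H (χ a) ≠ ⊥ := by
    intro a; fin_cases a
    exacts [hρ, beta_ne_bot b hρ htop hj, hγ]
  have hle : ∀ a, R₀ H (χ a) ≤ W := by
    intro a; fin_cases a
    exacts [hWeq.symm ▸ le_sup_left.trans le_sup_left, hWeq.symm ▸ le_sup_right.trans le_sup_left,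
      hWeq.symm ▸ le_sup_right]
  choose v hv hv0 using fun a => (Submodule.ne_bot_iff _).1 (hne a)
  let u : Fin 3 → W := fun a => ⟨v a, hle a (hv a)⟩
  have hspan : Submodule.span K (range u) = ⊤ := by
    apply Submodule.map_injective_of_injective W.injective_subtype
    rw [Submodule.map_subtype_top, Submodule.map_span, ← Set.range_comp]
    refine le_antisymm (Submodule.span_le.2 (by rintro _ ⟨a, rfl⟩; exact hle a (hv a))) ?_
    have h1 : ∀ a, R₀ H (χ a) ≤ Submodule.span K (range (W.subtype ∘ u)) := fun a =>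
      le_of_mem (h0 a) (hv a) (hv0 a) (Submodule.subset_span ⟨a, rfl⟩)
    conv_lhs => rw [hWeq]
    exact sup_le (sup_le (h1 0) (h1 1)) (h1 2)
  let B : Module.Basis (Fin 3) K W := basisOfTopLeSpanOfCardEqFinrank u hspan.ge (by simp [hW])
  have hB : ∀ a, B a = u a := fun a => by simp [B]
  let P := QuadraticMap.polarBilin q
  have hPsym : ∀ x y, P x y = P y x := fun x y => QuadraticMap.polar_comm q x y
  have hdiag : ∀ w, P w w = 2 * q w := fun w => by
    show QuadraticMap.polar q w w = _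
    rw [QuadraticMap.polar_self]; simp [two_mul, two_nsmul]
  -- polarised semi-invariance
  have hinv : ∀ (x : L) (hx : x ∈ H.toSubmodule ⊔ (b.borelUpper : Submodule K L)), ∃ c : K, ∀ w w' : W,
      P ⟨⁅x, (w : L)⁆, hst x hx w w.2⟩ w' + P w ⟨⁅x, (w' : L)⁆, hst x hx w' w'.2⟩ = c * P w w' := by
    intro x hx
    obtain ⟨c, hc⟩ := hq x hx
    refine ⟨c, fun w w' => ?_⟩
    let D : W →ₗ[K] W :=
      { toFun := fun w => ⟨⁅x, (w : L)⁆, hst x hx w w.2⟩
        map_add' := fun a a' => Subtype.ext (by simp)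
        map_smul' := fun r a => Subtype.ext (by simp) }
    have hD : ∀ w, P (D w) w = c * q w := hc
    have h1 := hD (w + w')
    simp only [map_add, LinearMap.add_apply] at h1
    rw [hD w, hD w', hPsym (D w') w] at h1
    show P (D w) w' + P w (D w') = c * P w w'
    have h2 : P w w' = q (w + w') - q w - q w' := rfl
    rw [h2]
    linear_combination h1
  have hsum : ∀ (a a' c c' : Fin 3), P (u a) (u a') ≠ 0 → P (u c) (u c') ≠ 0 → χ a + χ a' = χ c + χ c' := by
    intro a a' c c' h1 h2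
    refine LinearMap.ext fun y => ?_
    obtain ⟨r, hr⟩ := hinv (y : L) (Submodule.mem_sup_left y.2)
    have key : ∀ a a', P (u a) (u a') ≠ 0 → (χ a + χ a') y = r := by
      intro a a' h
      have e : ∀ a, (⟨⁅(y : L), (u a : L)⁆, hst _ (Submodule.mem_sup_left y.2) _ (u a).2⟩ : W) = χ a y • u a :=
        fun a => Subtype.ext (lie_eq (hv a) y)
      have := hr (u a) (u a')
      rw [e, e, map_smul, LinearMap.smul_apply, map_smul, smul_eq_mul, smul_eq_mul, ← add_mul] at this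
      exact mul_right_cancel₀ h this
    rw [key a a' h1, key c c' h2]
  have he : ∀ i : ι, b.e i ∈ H.toSubmodule ⊔ (b.borelUpper : Submodule K L) := fun i =>
    Submodule.mem_sup_right (LieSubalgebra.subset_lieSpan ⟨i, rfl⟩)
  -- the raising operators
  have hzero : ∀ i a, R₀ H (χ a + b.baseSupp i) = ⊥ →
      (⟨⁅b.e i, (u a : L)⁆, hst _ (he i) _ (u a).2⟩ : W) = 0 := fun i a h => Subtype.ext <| by
    have h' := lie_mem (e_mem b i) (hv a)
    rw [add_comm, h] at h'
    exact h'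
  have hup : ∀ i a a', χ a + b.baseSupp i = χ a' →
      ∃ t : K, t ≠ 0 ∧ (⟨⁅b.e i, (u a : L)⁆, hst _ (he i) _ (u a).2⟩ : W) = t • u a' := fun i a a' h => by
    have h' := lie_mem (e_mem b i) (hv a)
    rw [add_comm, h] at h'
    obtain ⟨t, ht⟩ := (finrank_eq_one_iff_of_nonzero' (⟨v a', hv a'⟩ : R₀ H (χ a'))
      fun e => hv0 a' (congrArg Subtype.val e)).1 (finrank_eq_one (hne a') (h0 a')) ⟨_, h'⟩
    have ht' : t • v a' = ⁅b.e i, (u a : L)⁆ := congrArg Subtype.val ht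
    refine ⟨t, fun t0 => lie_e_ne_zero b (h0 a) i (h ▸ hne a') (hv a) (hv0 a) ?_, Subtype.ext ht'.symm⟩
    rw [t0, zero_smul] at ht'
    exact ht'.symm
  have hsum1 : ∀ (a a' c c' : Fin 3) (m n : Fin 3 → ℕ), m = ![0, 1, 1] → n = ![0, 0, 1] →
      P (u a) (u a') ≠ 0 → P (u c) (u c') ≠ 0 → m a + m a' = m c + m c' ∧ n a + n a' = n c + n c' := by
    intro a a' c c' m n hm hn h1 h2
    have h := hsum a a' c c' h1 h2
    have hχ : ∀ a, χ a = ρ - ∑ l, (Pi.single j (m a) + Pi.single k (n a) : ι → ℕ) l • b.baseSupp l := by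
      intro a
      simp only [Pi.add_apply, add_smul, Finset.sum_add_distrib, Pi.single_apply, ite_smul, zero_smul,
        Finset.sum_ite_eq', Finset.mem_univ, if_true]
      subst hm hn
      fin_cases a <;> simp [χ, sub_sub]
    rw [hχ, hχ, hχ, hχ] at h
    have h' : ∑ l, ((Pi.single j (m a) + Pi.single k (n a) + (Pi.single j (m a') + Pi.single k (n a'))) : ι → ℕ) l •
          b.baseSupp l = ∑ l, ((Pi.single j (m c) + Pi.single k (n c) + (Pi.single j (m c') + Pi.single k (n c'))) : ι → ℕ) l •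
          b.baseSupp l := by
      simp only [Pi.add_apply, add_smul, Finset.sum_add_distrib] at h ⊢
      rw [sub_add_sub_comm, sub_add_sub_comm] at h
      exact sub_right_injective h
    have h'' := Fintype.linearIndependent_iffₛ.mp (b.linearIndependent_baseSupp.restrict_scalars' ℕ) _ _ h'
    have e1 := h'' j
    have e2 := h'' k
    simp [hkj, hkj.symm] at e1 e2
    exact ⟨e1, e2⟩
  -- off-diagonal entries vanish
  have hz : ∀ i a, R₀ H (χ a + b.baseSupp i) = ⊥ → ∀ w, P (⟨⁅b.e i, (u a : L)⁆, hst _ (he i) _ (u a).2⟩ : W) w = 0 :=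
    fun i a h w => by rw [hzero i a h, map_zero, LinearMap.zero_apply]
  have hb1 : χ 1 + b.baseSupp j = χ 0 := by simp [χ]
  have hb2 : χ 2 + b.baseSupp k = χ 1 := by simp [χ]
  have hb3 : R₀ H (χ 2 + b.baseSupp j) = ⊥ := by
    by_contra h
    have : R₀ H (ρ - 1 • b.baseSupp k) ≠ ⊥ := by
      rwa [one_smul, show ρ - b.baseSupp k = χ 2 + b.baseSupp j by simp [χ]; abel]
    rcases zsmul_rho_iff b hρ htop hN hj k 1 this with h1 | ⟨h1, -⟩
    · exact one_ne_zero h1
    · exact hkj h1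
  have hoff : ∀ a a', a ≠ a' → P (u a) (u a') = 0 := by
    have key : ∀ a a', P (u a) (u a') ≠ 0 → ∀ c c', P (u c) (u c') ≠ 0 →
        (![0, 1, 1] : Fin 3 → ℕ) a + ![0, 1, 1] a' = ![0, 1, 1] c + ![0, 1, 1] c' ∧
        (![0, 0, 1] : Fin 3 → ℕ) a + ![0, 0, 1] a' = ![0, 0, 1] c + ![0, 0, 1] c' :=
      fun a a' h c c' h' => hsum1 a a' c c' _ _ rfl rfl h h'
    have h01 : P (u 0) (u 1) = 0 := by
      by_contra h
      have h11 : P (u 1) (u 1) = 0 := by by_contra h'; simpa using key 0 1 h 1 1 h'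
      obtain ⟨r, hr⟩ := hinv _ (he j)
      obtain ⟨t, ht0, ht⟩ := hup j 1 0 hb1
      have := hr (u 1) (u 1)
      rw [ht, map_smul, LinearMap.smul_apply, map_smul, hPsym (u 1) (u 0), h11, mul_zero, ← two_mul, smul_eq_mul] at this
      exact h ((mul_eq_zero.1 ((mul_eq_zero.1 this).resolve_left two_ne_zero)).resolve_left ht0)
    have h12 : P (u 1) (u 2) = 0 := by
      by_contra h
      have h22 : P (u 2) (u 2) = 0 := by by_contra h'; simpa using key 1 2 h 2 2 h'
      obtain ⟨r, hr⟩ := hinv _ (he k)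
      obtain ⟨t, ht0, ht⟩ := hup k 2 1 hb2
      have := hr (u 2) (u 2)
      rw [ht, map_smul, LinearMap.smul_apply, map_smul, hPsym (u 2) (u 1), h22, mul_zero, ← two_mul, smul_eq_mul] at this
      exact h ((mul_eq_zero.1 ((mul_eq_zero.1 this).resolve_left two_ne_zero)).resolve_left ht0)
    have h02 : P (u 0) (u 2) = 0 := by
      by_contra h
      obtain ⟨r, hr⟩ := hinv _ (he j)
      obtain ⟨t, ht0, ht⟩ := hup j 1 0 hb1
      have := hr (u 1) (u 2)
      rw [ht, hzero j 2 hb3, map_smul, LinearMap.smul_apply, map_zero, add_zero, h12, mul_zero, smul_eq_mul] at this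
      exact h ((mul_eq_zero.1 this).resolve_left ht0)
    intro a a' haa'
    fin_cases a <;> fin_cases a' <;>
      first
        | exact absurd rfl haa'
        | assumption
        | exact (hPsym _ _).trans h01
        | exact (hPsym _ _).trans h02
        | exact (hPsym _ _).trans h12
  exact rank_le_one_of_polar q B (fun a a' h => by rw [hB, hB]; exact hoff a a' h)
    fun a a' h h' => by
      rw [hB] at h h'
      exact key3 a a' (hsum1 a a a' a' _ _ rfl rfl h h')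

end Groth.Agent.AdjBorel
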